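import Cfsg.Agent.H198.OrthGamma
import Cfsg.Agent.LieClassical.OrthCenter

/-!
# S4880, orthogonal groups: automorphisms (helper156)

* `Cm g σ` : `A ↦ g σ(A) g⁻¹`; preserves `Ω(Q)` for a semisimilarity pair;
* **`exists_semi`** : `φ (x Z) = y Z`, `x`, `y` of order `p ≥ 3` : `y = g σ(x) g⁻¹`.
-/

set_option autoImplicit false

namespace Cfsg.Agent.H156.One

open Cfsg Matrix QuadraticMap

universe u

variable {ι : Type} [Fintype ι] [DecidableEq ι] {F : Type u} [Field F]

/-- `A ↦ g σ(A) g⁻¹` -/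
def Cm (g : GL ι F) (σ : F ≃+* F) : GL ι F →* GL ι F :=
  (MulAut.conj g).toMonoidHom.comp (Matrix.GeneralLinearGroup.map (σ : F →+* F))

theorem Cm_coe (g : GL ι F) (σ : F ≃+* F) (A : GL ι F) :
    (Cm g σ A : Matrix ι ι F) = (g : Matrix ι ι F) * (A : Matrix ι ι F).map σ * ((g⁻¹ : GL ι F) : Matrix ι ι F) := rfl

theorem Cm_injective (g : GL ι F) (σ : F ≃+* F) : Function.Injective (Cm g σ) := by
  intro A B h
  have h1 : Matrix.GeneralLinearGroup.map (σ : F →+* F) A = Matrix.GeneralLinearGroup.map (σ : F →+* F) B :=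
    (MulAut.conj g).injective h
  apply Units.ext
  ext i j
  apply σ.injective
  have h2 := congrArg (fun C : GL ι F => (C : Matrix ι ι F) i j) h1
  simpa using h2

variable {Q : (ι → F) → F} {g : GL ι F} {σ : F ≃+* F}

theorem mem_iso {A : GL ι F} : A ∈ isometryGroup F Q ↔ ∀ u, Q ((A : Matrix ι ι F) *ᵥ u) = Q u :=
  ⟨fun h u => h u u, fun h u _ => h u⟩

theorem Cm_mem (h : IsSemisimilarityPair Q g σ) {A : GL ι F} (hA : A ∈ isometryGroup F Q) :
    Cm g σ A ∈ isometryGroup F Q := by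
  obtain ⟨c, hc⟩ := h
  have hA' := mem_iso.1 hA
  refine mem_iso.2 fun v => ?_
  obtain ⟨w, hw⟩ : ∃ w : ι → F, (g : Matrix ι ι F) *ᵥ (fun i => σ (w i)) = v := by
    refine ⟨fun i => σ.symm ((((g⁻¹ : GL ι F) : Matrix ι ι F) *ᵥ v) i), ?_⟩
    simp only [RingEquiv.apply_symm_apply]
    rw [Matrix.mulVec_mulVec, ← Units.val_mul, mul_inv_cancel, Units.val_one, Matrix.one_mulVec]
  have h1 : (Cm g σ A : Matrix ι ι F) *ᵥ v = (g : Matrix ι ι F) *ᵥ (fun i => σ (((A : Matrix ι ι F) *ᵥ w) i)) := by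
    rw [Cm_coe, ← hw, Matrix.mulVec_mulVec, Matrix.mul_assoc, ← Units.val_mul, inv_mul_cancel, Units.val_one,
      Matrix.mul_one, ← Matrix.mulVec_mulVec]
    congr 1
    funext i
    exact (RingHom.map_mulVec (σ : F →+* F) (A : Matrix ι ι F) w i).symm
  rw [h1, hc, hA', ← hw, hc]

/-- the induced endomorphism of the isometry group -/
def Ci (h : IsSemisimilarityPair Q g σ) : isometryGroup F Q →* isometryGroup F Q :=
  ((Cm g σ).comp (isometryGroup F Q).subtype).codRestrict (isometryGroup F Q) fun A => Cm_mem h A.2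

theorem Ci_mem (h : IsSemisimilarityPair Q g σ) {A : isometryGroup F Q} (hA : A ∈ Omega F Q) : Ci h A ∈ Omega F Q := by
  have h1 : (Omega F Q).map (Ci h) ≤ Omega F Q := by
    unfold Omega
    rw [commutator_def, Subgroup.map_commutator]
    exact Subgroup.commutator_mono le_top le_top
  exact h1 (Subgroup.mem_map_of_mem _ hA)

/-- the induced endomorphism of `Ω` -/
def Co (h : IsSemisimilarityPair Q g σ) : Omega F Q →* Omega F Q :=
  ((Ci h).comp (Omega F Q).subtype).codRestrict (Omega F Q) fun A => Ci_mem h A.2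

theorem Co_coe (h : IsSemisimilarityPair Q g σ) (A : Omega F Q) :
    (((Co h A : isometryGroup F Q) : GL ι F)) = Cm g σ ((A : isometryGroup F Q) : GL ι F) := rfl

theorem Co_injective (h : IsSemisimilarityPair Q g σ) : Function.Injective (Co h) := by
  intro A B hAB
  have h1 : Cm g σ ((A : isometryGroup F Q) : GL ι F) = Cm g σ ((B : isometryGroup F Q) : GL ι F) := by
    rw [← Co_coe h, ← Co_coe h, hAB]
  exact Subtype.ext (Subtype.ext (Cm_injective g σ h1))

theorem exists_semi {Q : QuadraticForm F (ι → F)} (hQ : (polarBilin Q).Nondegenerate) (hn : 3 ≤ Fintype.card ι)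
    (hs : ∃ u : ι → F, u ≠ 0 ∧ Q u = 0) {φ : MulAut (POmega F (⇑Q))} (hφ : AutOrth.Main.Ind (⇑Q) φ) {p : ℕ}
    (hp : p.Prime) (hp3 : 3 ≤ p) {x y : Omega F (⇑Q)} (hx : orderOf x = p) (hy : orderOf y = p)
    (hxy : φ (QuotientGroup.mk x) = QuotientGroup.mk y) :
    ∃ (g : GL ι F) (σ : F ≃+* F), (((y : isometryGroup F (⇑Q)) : GL ι F) : Matrix ι ι F) =
      (g : Matrix ι ι F) * (((x : isometryGroup F (⇑Q)) : GL ι F) : Matrix ι ι F).map σ *
        ((g⁻¹ : GL ι F) : Matrix ι ι F) := by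
  obtain ⟨g, σ, h, hi⟩ := H198.OrthGamma.exists_pair hφ
  refine ⟨g, σ, ?_⟩
  have h1 := hi x (Co h x) (by rw [Co_coe]; rfl)
  rw [hxy] at h1
  have h2 : (Co h x)⁻¹ * y ∈ Subgroup.center (Omega F (⇑Q)) := QuotientGroup.eq.1 h1.symm
  have h3 : orderOf (Co h x) = p := by rw [orderOf_injective _ (Co_injective h), hx]
  obtain ⟨z, hz⟩ : ∃ z, z = (Co h x)⁻¹ * y := ⟨_, rfl⟩
  rw [← hz] at h2
  have hy' : y = Co h x * z := by rw [hz, mul_inv_cancel_left]
  have hzp : z ^ p = 1 := by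
    have h4 : Commute (Co h x) z := (Subgroup.mem_center_iff.1 h2 (Co h x))
    have h5 : (Co h x * z) ^ p = 1 := by rw [← hy', ← hy]; exact pow_orderOf_eq_one y
    rw [h4.mul_pow, ← h3, pow_orderOf_eq_one, one_mul, h3] at h5
    exact h5
  have hz2 : z ^ 2 = 1 := by
    rcases (Cfsg.Agent.LieClassical.OrthCenter.mem_center_omega_iff hQ hn hs z).1 h2 with h | h
    · have h' : z = 1 := Subtype.ext (Subtype.ext (Units.ext h))
      rw [h', one_pow]
    · apply Subtype.ext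
      apply Subtype.ext
      apply Units.ext
      change (((z : isometryGroup F (⇑Q)) : GL ι F) : Matrix ι ι F) ^ 2 = 1
      rw [h, neg_one_sq]
  have hz1 : z = 1 := by
    have h4 : orderOf z ∣ p := orderOf_dvd_of_pow_eq_one hzp
    have h5 : orderOf z ∣ 2 := orderOf_dvd_of_pow_eq_one hz2
    rcases (Nat.dvd_prime hp).1 h4 with h6 | h6
    · exact orderOf_eq_one_iff.1 h6
    · rw [h6] at h5
      have := Nat.le_of_dvd (by norm_num) h5
      omega
  rw [hz1, mul_one] at hy'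
  rw [hy']
  rfl

end Cfsg.Agent.H156.One
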